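import Cfsg.Agent.KFacts.MulFi24.Clique
import Cfsg.Agent.Fischer.Abstract

/-!
# Double covers of the commutator subgroup of a 3-transposition group

`G` with a rank three class `R` of 3-transpositions, `|G : G'| = 2`, `F` perfect with a rank three class `R'`,
`φ : F → C_G(t₀)` injective with `|C_G(t₀)| = 2 |F|`, `φ(t'₀) t₀` a transposition. If `F` has no double cover and
`C_F(t'₀)` has no subgroup of index 2, then `G'` has no double cover.
-/

set_option autoImplicit false

namespace Cfsg.Agent.KFacts.MulFi24.Abs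

open Subgroup Cfsg.Agent.KFacts.MulTwo Cfsg.Agent.KFacts.MulDef Cfsg.Agent.KFacts.MulFi24.Clique
open Cfsg.Agent.Fischer.Abstract

variable {G Ω F Ω' : Type*} [Group G] [MulAction G Ω] [Group F] [MulAction F Ω']

/-- The situation. -/
structure Sit (R : Rank3 G Ω) (R' : Rank3 F Ω') (φ : F →* G) : Prop where
  inj : Function.Injective φ
  cen : ∀ h, φ h * R.t R.x0 = R.t R.x0 * φ h
  base : ∃ p : Ω, R.t p = φ (R'.t R'.x0) * R.t R.x0
  idx : (commutator G).index = 2
  perf : commutator F = ⊤
  card : Nat.card ↥(centralizer ({R.t R.x0} : Set G)) = 2 * Nat.card F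

namespace Sit

variable {R : Rank3 G Ω} {R' : Rank3 F Ω'} {φ : F →* G}

theorem t_notMem (S : Sit R R' φ) (p : Ω) : R.t p ∉ commutator G := by
  intro hp
  have h0 : R.t R.x0 ∈ commutator G := by
    obtain ⟨g, rfl⟩ := R.trans p
    rw [R.map_smul] at hp
    have h1 : (commutator G).Normal := inferInstance
    have := h1.conj_mem _ hp g⁻¹
    rw [inv_inv] at this
    have e : g⁻¹ * (g * R.t R.x0 * g⁻¹) * g = R.t R.x0 := by group
    rwa [e] at this
  have hall : ∀ q, R.t q ∈ commutator G := by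
    intro q
    obtain ⟨g, rfl⟩ := R.trans q
    rw [R.map_smul]
    have h1 : (commutator G).Normal := inferInstance
    exact h1.conj_mem _ h0 g
  have htop : commutator G = ⊤ := by
    rw [eq_top_iff, ← R.gen, closure_le]
    rintro _ ⟨q, rfl⟩
    exact hall q
  have := S.idx
  rw [htop, index_top] at this
  exact absurd this (by norm_num)

theorem mul_mem (S : Sit R R' φ) {g k : G} (hg : g ∉ commutator G) (hk : k ∉ commutator G) :
    g * k ∈ commutator G := by
  rw [Subgroup.mul_mem_iff_of_index_two S.idx]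
  exact ⟨fun h => absurd h hg, fun h => absurd h hk⟩

theorem range_le (S : Sit R R' φ) (h : F) : φ h ∈ commutator G := by
  have h1 : h ∈ commutator F := by rw [S.perf]; exact mem_top _
  have h2 : (commutator F).map φ ≤ commutator G := by
    rw [commutator_def, Subgroup.map_commutator]
    exact commutator_mono le_top le_top
  exact h2 ⟨h, h1, rfl⟩

theorem smul_x0 (S : Sit R R' φ) (h : F) : φ h • R.x0 = R.x0 :=
  (R.smul_eq_iff_comm _ _).2 (S.cen h)

/-- The stabilizer of the base point. -/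
theorem stab (S : Sit R R' φ) [Finite G] (g : G) (hg : g • R.x0 = R.x0) :
    (∃ h, g = φ h) ∨ ∃ h, g = φ h * R.t R.x0 := by
  classical
  let C := centralizer ({R.t R.x0} : Set G)
  have hfF : Finite F := Finite.of_injective φ S.inj
  let f : F × Bool → C := fun p =>
    ⟨φ p.1 * (if p.2 then R.t R.x0 else 1), by
      rw [mem_centralizer_singleton_iff]
      rcases p.2 with _ | _
      · simp only [Bool.false_eq_true, if_false, mul_one]
        exact S.cen _
      · simp only [if_true]
        rw [mul_assoc, ← mul_assoc (R.t R.x0), ← S.cen, mul_assoc]⟩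
  have hnot : ∀ h : F, R.t R.x0 ≠ φ h := fun h hh => S.t_notMem R.x0 (by rw [hh]; exact S.range_le h)
  have hinj : Function.Injective f := by
    rintro ⟨h, i⟩ ⟨k, j⟩ hhk
    have h1 : φ h * (if i then R.t R.x0 else 1) = φ k * (if j then R.t R.x0 else 1) :=
      congrArg Subtype.val hhk
    have h2 : i = j := by
      rcases i with _ | _ <;> rcases j with _ | _
      · rfl
      · exfalso
        simp only [Bool.false_eq_true, if_false, if_true, mul_one] at h1
        apply hnot (k⁻¹ * h)
        rw [map_mul, map_inv, h1, inv_mul_cancel_left]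
      · exfalso
        simp only [Bool.false_eq_true, if_false, if_true, mul_one] at h1
        apply hnot (h⁻¹ * k)
        rw [map_mul, map_inv, ← h1, inv_mul_cancel_left]
      · rfl
    subst h2
    have h3 := S.inj (mul_right_cancel h1)
    rw [h3]
  have hcard : Nat.card (F × Bool) = Nat.card C := by
    rw [Nat.card_prod, S.card, Nat.card_eq_fintype_card (α := Bool), Fintype.card_bool, mul_comm]
  have hsurj : Function.Surjective f :=
    ((Nat.bijective_iff_injective_and_card f).2 ⟨hinj, hcard⟩).2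
  have hgC : g ∈ C := (R.mem_centralizer_iff g R.x0).2 hg
  obtain ⟨⟨h, i⟩, hf⟩ := hsurj ⟨g, hgC⟩
  have h1 : φ h * (if i then R.t R.x0 else 1) = g := congrArg Subtype.val hf
  rcases i with _ | _
  · left
    refine ⟨h, ?_⟩
    rw [← h1]; simp
  · right
    exact ⟨h, h1.symm⟩

theorem stab_mem (S : Sit R R' φ) [Finite G] {g : G} (hg : g • R.x0 = R.x0) (hc : g ∈ commutator G) :
    ∃ h, g = φ h := by
  rcases S.stab g hg with h | ⟨h, rfl⟩
  · exact h
  · exfalso
    have := (Subgroup.mul_mem_cancel_left _ (S.range_le h)).1 hc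
    exact S.t_notMem _ this

/-- the relation -/
def Rel (R : Rank3 G Ω) (p q : Ω) : Prop := R.Com p q ∧ p ≠ q

/-- Points commuting with the base point correspond to points of `Ω'`. -/
theorem exists_pt (S : Sit R R' φ) [Finite G] {q : Ω} (hq : Rel R R.x0 q) :
    ∃ y : Ω', R.t q = φ (R'.t y) * R.t R.x0 := by
  obtain ⟨p, hp⟩ := S.base
  have hpc : R.Com R.x0 p := by
    show R.t R.x0 * R.t p = R.t p * R.t R.x0
    rw [hp, ← mul_assoc, ← S.cen]
  have hpne : p ≠ R.x0 := by
    rintro rfl
    apply R'.t_ne_one R'.x0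
    apply S.inj
    rw [map_one]
    exact mul_eq_right.mp hp.symm
  obtain ⟨g, hg, hgp⟩ := (R.com_x0_iff.1 hpc).resolve_left hpne
  obtain ⟨k, hk, hkq⟩ := (R.com_x0_iff.1 hq.1).resolve_left (Ne.symm hq.2)
  have h1 : (k * g⁻¹) • R.x0 = R.x0 := by rw [mul_smul, inv_smul_eq_iff.2 hg.symm, hk]
  have h2 : (k * g⁻¹) • p = q := by rw [mul_smul, ← hgp, inv_smul_smul, hkq]
  have h3 : ∃ h, φ h • p = q := by
    rcases S.stab _ h1 with ⟨h, hh⟩ | ⟨h, hh⟩
    · exact ⟨h, by rw [← hh, h2]⟩
    · refine ⟨h, ?_⟩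
      rw [hh, mul_smul, (R.t_smul_eq_iff _ _).2 hpc] at h2
      exact h2
  obtain ⟨h, rfl⟩ := h3
  refine ⟨h • R'.x0, ?_⟩
  rw [R.map_smul, hp, R'.map_smul, map_mul, map_mul, map_inv]
  have e := S.cen h
  calc φ h * (φ (R'.t R'.x0) * R.t R.x0) * (φ h)⁻¹
      = φ h * φ (R'.t R'.x0) * (R.t R.x0 * φ h⁻¹) := by rw [map_inv]; group
    _ = φ h * φ (R'.t R'.x0) * (φ h⁻¹ * R.t R.x0) := by rw [S.cen h⁻¹]
    _ = _ := by rw [map_inv]; group

/-- ... and conversely. -/
theorem exists_point (S : Sit R R' φ) (y : Ω') :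
    ∃ q : Ω, R.t q = φ (R'.t y) * R.t R.x0 ∧ Rel R R.x0 q := by
  obtain ⟨p, hp⟩ := S.base
  obtain ⟨h, rfl⟩ := R'.trans y
  have e1 : R.t (φ h • p) = φ (R'.t (h • R'.x0)) * R.t R.x0 := by
    rw [R.map_smul, hp, R'.map_smul, map_mul, map_mul, map_inv]
    calc φ h * (φ (R'.t R'.x0) * R.t R.x0) * (φ h)⁻¹
        = φ h * φ (R'.t R'.x0) * (R.t R.x0 * φ h⁻¹) := by rw [map_inv]; group
      _ = φ h * φ (R'.t R'.x0) * (φ h⁻¹ * R.t R.x0) := by rw [S.cen h⁻¹]
      _ = _ := by rw [map_inv]; group
  refine ⟨φ h • p, e1, ?_, ?_⟩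
  · show R.t R.x0 * R.t (φ h • p) = R.t (φ h • p) * R.t R.x0
    rw [e1, ← mul_assoc, ← S.cen]
  · intro h1
    rw [← h1] at e1
    apply R'.t_ne_one (h • R'.x0)
    apply S.inj
    rw [map_one]
    exact mul_eq_right.mp e1.symm

/-- every pair is the image of a given one, by an element of the commutator subgroup -/
theorem pair (S : Sit R R' φ) {x y e : Ω} (he : Rel R R.x0 e) (hxy : Rel R x y) :
    ∃ g : ↥(commutator G), g • R.x0 = x ∧ g • e = y := by
  have key : ∀ x y : Ω, Rel R x y → ∃ g : G, g • R.x0 = x ∧ g • R.c = y := by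
    intro x y hxy
    obtain ⟨g, rfl⟩ := R.trans x
    have h1 : R.Com R.x0 (g⁻¹ • y) := by
      have := (R.com_smul g R.x0 (g⁻¹ • y)).1
      rw [smul_inv_smul] at this
      exact this hxy.1
    have h2 : g⁻¹ • y ≠ R.x0 := by
      intro h
      apply hxy.2
      rw [← h, smul_inv_smul]
    obtain ⟨h, hh, hc⟩ := (R.com_x0_iff.1 h1).resolve_left h2
    exact ⟨g * h, by rw [mul_smul, hh], by rw [mul_smul, hc, smul_inv_smul]⟩
  obtain ⟨g, hg1, hg2⟩ := key x y hxy
  obtain ⟨k, hk1, hk2⟩ := key _ _ he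
  have e1 : (g * k⁻¹) • R.x0 = x := by rw [mul_smul, inv_smul_eq_iff.2 hk1.symm, hg1]
  have e2 : (g * k⁻¹) • e = y := by rw [mul_smul, ← hk2, inv_smul_smul, hg2]
  by_cases hc : g * k⁻¹ ∈ commutator G
  · exact ⟨⟨_, hc⟩, e1, e2⟩
  · refine ⟨⟨g * k⁻¹ * R.t R.x0, S.mul_mem hc (S.t_notMem _)⟩, ?_, ?_⟩
    · show (g * k⁻¹ * R.t R.x0) • R.x0 = x
      rw [mul_smul, R.t_smul_self, e1]
    · show (g * k⁻¹ * R.t R.x0) • e = y
      rw [mul_smul, (R.t_smul_eq_iff _ _).2 he.1, e2]

theorem com_iff (S : Sit R R' φ) {p q : Ω} {y z : Ω'} (hp : R.t p = φ (R'.t y) * R.t R.x0)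
    (hq : R.t q = φ (R'.t z) * R.t R.x0) : R.Com p q ↔ R'.Com y z := by
  have e : ∀ a b : F, φ a * R.t R.x0 * (φ b * R.t R.x0) = φ (a * b) := by
    intro a b
    calc φ a * R.t R.x0 * (φ b * R.t R.x0) = φ a * (R.t R.x0 * φ b) * R.t R.x0 := by
          simp only [mul_assoc]
      _ = φ a * (φ b * R.t R.x0) * R.t R.x0 := by rw [S.cen]
      _ = φ a * φ b * (R.t R.x0 * R.t R.x0) := by simp only [mul_assoc]
      _ = φ (a * b) := by rw [R.sq, mul_one, map_mul]
  unfold Rank3.Com
  rw [hp, hq, e, e]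
  exact S.inj.eq_iff

theorem geo (S : Sit R R' φ) [Finite G] : ∃ e f : Ω, R.t e = φ (R'.t R'.x0) * R.t R.x0 ∧
    Geo ↥(commutator G) (Rel R) R.x0 e f := by
  obtain ⟨e, he, he'⟩ := S.exists_point R'.x0
  obtain ⟨f, hf, hf'⟩ := S.exists_point R'.c
  have hef : Rel R e f := by
    refine ⟨(S.com_iff he hf).2 R'.com_x0_c, ?_⟩
    rintro rfl
    apply R'.ne_c
    apply S.inj
    exact mul_right_cancel (hf.symm.trans he)
  refine ⟨e, f, he, ?_⟩
  exact
    { symm := fun x y h => ⟨R.com_symm h.1, Ne.symm h.2⟩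
      inv := fun g x y h => ⟨(R.com_smul (g : G) x y).2 h.1, fun hh => h.2 (smul_left_cancel _ hh)⟩
      de := he'
      df := hf'
      ef := hef
      trans := fun d => by
        obtain ⟨g, hg⟩ := R.trans d
        by_cases hc : g ∈ commutator G
        · exact ⟨⟨g, hc⟩, hg⟩
        · refine ⟨⟨g * R.t R.x0, S.mul_mem hc (S.t_notMem _)⟩, ?_⟩
          show (g * R.t R.x0) • R.x0 = d
          rw [mul_smul, R.t_smul_self, hg]
      pair := fun x y h => S.pair he' h
      triple := fun x y z hxy hxz hyz => by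
        obtain ⟨g, rfl, rfl⟩ := S.pair he' hxy
        have hz1 : Rel R R.x0 (g⁻¹ • z) := by
          refine ⟨?_, ?_⟩
          · have := (R.com_smul (g : G) R.x0 ((g : G)⁻¹ • z)).1
            rw [smul_inv_smul] at this
            exact this hxz.1
          · intro h
            apply hxz.2
            rw [h, smul_inv_smul]
        have hz2 : Rel R e (g⁻¹ • z) := by
          refine ⟨?_, ?_⟩
          · have := (R.com_smul (g : G) e ((g : G)⁻¹ • z)).1
            rw [smul_inv_smul] at this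
            exact this hyz.1
          · intro h
            apply hyz.2
            rw [h, smul_inv_smul]
        obtain ⟨w, hw⟩ := S.exists_pt hz1
        have hcw : R'.Com R'.x0 w := (S.com_iff he hw).1 hz2.1
        have hnw : w ≠ R'.x0 := by
          rintro rfl
          apply hz2.2
          apply R.t_injective
          rw [he, hw]
        obtain ⟨h, hh, hc⟩ := (R'.com_x0_iff.1 hcw).resolve_left hnw
        have e1 : ∀ (p : Ω) (u v : Ω'), R.t p = φ (R'.t u) * R.t R.x0 → h • u = v →
            ∀ q, R.t q = φ (R'.t v) * R.t R.x0 → φ h • p = q := by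
          intro p u v hp huv q hq
          apply R.t_injective
          rw [R.map_smul, hp, hq, ← huv, R'.map_smul, map_mul, map_mul, map_inv]
          calc φ h * (φ (R'.t u) * R.t R.x0) * (φ h)⁻¹
              = φ h * φ (R'.t u) * (R.t R.x0 * φ h⁻¹) := by rw [map_inv]; group
            _ = φ h * φ (R'.t u) * (φ h⁻¹ * R.t R.x0) := by rw [S.cen h⁻¹]
            _ = _ := by rw [map_inv]; group
        refine ⟨g * ⟨φ h, S.range_le h⟩, ?_, ?_, ?_⟩
        · rw [mul_smul]
          congr 1
          exact S.smul_x0 h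
        · rw [mul_smul]
          congr 1
          exact e1 e _ _ he hh e he
        · rw [mul_smul]
          have : (⟨φ h, S.range_le h⟩ : ↥(commutator G)) • f = g⁻¹ • z := e1 f _ _ hf hc _ hw
          rw [this, smul_inv_smul] }

/-- The stabilizer of the base point in the commutator subgroup. -/
theorem exists_equiv (S : Sit R R' φ) [Finite G] :
    ∃ ε : F ≃* ↥(MulAction.stabilizer ↥(commutator G) R.x0), ∀ h : F, (((ε h : ↥(commutator G))) : G) = φ h := by
  let f : F →* ↥(MulAction.stabilizer ↥(commutator G) R.x0) :=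
    { toFun := fun h => ⟨⟨φ h, S.range_le h⟩, S.smul_x0 h⟩
      map_one' := Subtype.ext (Subtype.ext (map_one φ))
      map_mul' := fun a b => Subtype.ext (Subtype.ext (map_mul φ a b)) }
  have hf : Function.Bijective f := by
    constructor
    · intro a b h
      exact S.inj (congrArg (fun x => (((x : ↥(MulAction.stabilizer ↥(commutator G) R.x0)) :
        ↥(commutator G)) : G)) h)
    · rintro ⟨⟨g, hg⟩, hgx⟩
      obtain ⟨h, rfl⟩ := S.stab_mem (g := g) hgx hg
      exact ⟨h, rfl⟩
  exact ⟨MulEquiv.ofBijective f hf, fun h => rfl⟩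

/-- The stabilizer of the base pair. -/
theorem exists_equiv_two (S : Sit R R' φ) [Finite G] {e : Ω}
    (he : R.t e = φ (R'.t R'.x0) * R.t R.x0) :
    Nonempty (↥(centralizer ({R'.t R'.x0} : Set F)) ≃*
      ↥(MulAction.stabilizer ↥(commutator G) R.x0 ⊓ MulAction.stabilizer ↥(commutator G) e)) := by
  have key : ∀ h : F, φ h • e = e ↔ h ∈ centralizer ({R'.t R'.x0} : Set F) := by
    intro h
    rw [R.smul_eq_iff_comm, he, mem_centralizer_singleton_iff, ← S.inj.eq_iff, map_mul, map_mul]
    rw [← mul_assoc, mul_assoc (φ (R'.t R'.x0)), ← S.cen, ← mul_assoc]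
    exact mul_left_inj _
  let f : ↥(centralizer ({R'.t R'.x0} : Set F)) →*
      ↥(MulAction.stabilizer ↥(commutator G) R.x0 ⊓ MulAction.stabilizer ↥(commutator G) e) :=
    { toFun := fun h => ⟨⟨φ (h : F), S.range_le h⟩, S.smul_x0 h, (key h).2 h.2⟩
      map_one' := Subtype.ext (Subtype.ext (map_one φ))
      map_mul' := fun a b => Subtype.ext (Subtype.ext (map_mul φ (a : F) b)) }
  have hf : Function.Bijective f := by
    constructor
    · intro a b h
      apply Subtype.ext
      exact S.inj (congrArg (fun x => (((x : ↥(MulAction.stabilizer ↥(commutator G) R.x0 ⊓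
        MulAction.stabilizer ↥(commutator G) e)) : ↥(commutator G)) : G)) h)
    · rintro ⟨⟨g, hg⟩, hgx, hge⟩
      obtain ⟨h, rfl⟩ := S.stab_mem (g := g) hgx hg
      exact ⟨⟨h, (key h).1 hge⟩, rfl⟩
  exact ⟨MulEquiv.ofBijective f hf⟩

/-- **The theorem.** -/
theorem noDouble (S : Sit R R' φ) [Finite G] (hF : NoDouble F)
    (hC : NoSign ↥(centralizer ({R'.t R'.x0} : Set F))) : NoDouble ↥(commutator G) := by
  classical
  obtain ⟨e, f, he, hgeo⟩ := S.geo
  obtain ⟨ε, -⟩ := S.exists_equiv
  obtain ⟨ε₂⟩ := S.exists_equiv_two he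
  have hp : IsPGroup 2 ↥(zpowers (R.t R.x0)) := by
    apply IsPGroup.of_card (n := 1)
    rw [Nat.card_zpowers, R.orderOf_t, pow_one]
  obtain ⟨T, hT⟩ := hp.exists_le_sylow
  have hx0 : R.t R.x0 ∈ (T : Subgroup G) := hT (mem_zpowers _)
  refine hgeo.noDouble (hF.congr ε) ?_ (hC.congr ε₂) (B := {p | R.t p ∈ (T : Subgroup G)})
    ⟨R.x0, hx0⟩ ?_ ((T : Subgroup G).subgroupOf (commutator G)) ?_ ?_
  · -- perfect
    exact commutator_top_of_surj ε.toMonoidHom ε.surjective S.perf
  · -- a clique
    intro p hp q hq hpq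
    refine ⟨?_, hpq⟩
    rcases R.com_or_braid p q with h | h
    · exact h
    · exfalso
      apply hpq
      have h3 : (R.t p * R.t q) ^ 3 = 1 := by
        calc (R.t p * R.t q) ^ 3 = (R.t p * R.t q * R.t p) * (R.t q * R.t p * R.t q) := by
              simp only [pow_succ, pow_zero, one_mul, mul_assoc]
          _ = (R.t p * R.t q * R.t p) * (R.t p * R.t q * R.t p) := by rw [← h]
          _ = R.t p * R.t q * (R.t p * R.t p) * R.t q * R.t p := by simp only [mul_assoc]
          _ = R.t p * (R.t q * R.t q) * R.t p := by rw [R.sq', mul_one]; simp only [mul_assoc]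
          _ = 1 := by rw [R.sq', mul_one, R.sq']
      obtain ⟨n, hn⟩ := T.isPGroup' ⟨R.t p * R.t q, T.mul_mem hp hq⟩
      have hn' : (R.t p * R.t q) ^ 2 ^ n = 1 := congrArg Subtype.val hn
      have h4 : orderOf (R.t p * R.t q) ∣ 1 := by
        have h5 : Nat.Coprime 3 (2 ^ n) := Nat.Coprime.pow_right n (by norm_num)
        rw [← Nat.Coprime.gcd_eq_one h5]
        exact Nat.dvd_gcd (orderOf_dvd_of_pow_eq_one h3) (orderOf_dvd_of_pow_eq_one hn')
      have h6 : R.t p * R.t q = 1 := by
        rw [← orderOf_eq_one_iff]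
        exact Nat.dvd_one.1 h4
      apply R.t_injective
      calc R.t p = R.t p * (R.t q * R.t q) := by rw [R.sq', mul_one]
        _ = R.t q := by rw [← mul_assoc, h6, one_mul]
  · -- the stabilizer
    intro g hg p hp
    show R.t ((g : G) • p) ∈ (T : Subgroup G)
    rw [R.map_smul]
    have hg' : (g : G) ∈ (T : Subgroup G) := hg
    exact (T : Subgroup G).mul_mem ((T : Subgroup G).mul_mem hg' hp) ((T : Subgroup G).inv_mem hg')
  · -- the index
    have h1 : ¬ 2 ∣ (T : Subgroup G).index := T.not_dvd_index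
    have h2 : (T : Subgroup G).relIndex (commutator G) * (commutator G).index =
        (commutator G).relIndex (T : Subgroup G) * (T : Subgroup G).index := by
      have e1 := Subgroup.relIndex_mul_index (inf_le_right : (T : Subgroup G) ⊓ commutator G ≤ commutator G)
      have e2 := Subgroup.relIndex_mul_index (inf_le_left : (T : Subgroup G) ⊓ commutator G ≤ (T : Subgroup G))
      rw [inf_relIndex_right] at e1
      rw [inf_relIndex_left] at e2
      rw [e1, e2]
    have h3 : (commutator G).relIndex (T : Subgroup G) ∣ (commutator G).index :=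
      relIndex_dvd_index_of_normal _ _
    rw [S.idx] at h2 h3
    have h4 : (commutator G).relIndex (T : Subgroup G) = 2 := by
      rcases (Nat.dvd_prime Nat.prime_two).1 h3 with h5 | h5
      · exfalso
        rw [h5, one_mul] at h2
        exact h1 ⟨_, by rw [← h2, mul_comm]⟩
      · exact h5
    rw [h4] at h2
    have h5 : (T : Subgroup G).relIndex (commutator G) = (T : Subgroup G).index := by omega
    show ¬ 2 ∣ (T : Subgroup G).relIndex (commutator G)
    rw [h5]; exact h1

end Sit

end Cfsg.Agent.KFacts.MulFi24.Abs
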