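import Cfsg.Agent.KFacts.MulFi24.Clique
import Cfsg.Prelude.Def_SporadicB

/-! # A non-split double cover of a perfect group is perfect -/

set_option autoImplicit false

namespace Cfsg.Agent.KFacts.MulFi24.Double

open Subgroup Cfsg Cfsg.Agent.KFacts.MulFi24.Clique

theorem perfect_of_double {H K : Type*} [Group H] [Group K] (h : IsNonsplitDoubleCover H K)
    (hK : commutator K = ⊤) : commutator H = ⊤ := by
  obtain ⟨h1, ⟨e⟩, h3⟩ := h
  obtain ⟨z, hz, hz'⟩ : ∃ z ∈ center H, z ≠ 1 ∧ ∀ x ∈ center H, x = 1 ∨ x = z := by
    obtain ⟨a, b, hab, huniv⟩ := Nat.card_eq_two_iff.1 h1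
    have key : ∀ x : center H, x = a ∨ x = b := by
      intro x
      have : x ∈ ({a, b} : Set (center H)) := by rw [huniv]; trivial
      simpa using this
    rcases key 1 with h | h
    · refine ⟨b, b.2, fun hb => hab ?_, fun x hx => ?_⟩
      · rw [← h]; exact Subtype.ext hb.symm
      · rcases key ⟨x, hx⟩ with h' | h'
        · left; rw [← h] at h'; exact congrArg Subtype.val h'
        · right; exact congrArg Subtype.val h'
    · refine ⟨a, a.2, fun hb => hab ?_, fun x hx => ?_⟩
      · rw [← h]; exact Subtype.ext hb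
      · rcases key ⟨x, hx⟩ with h' | h'
        · right; exact congrArg Subtype.val h'
        · left; rw [← h] at h'; exact congrArg Subtype.val h'
  let ρ : H →* K := e.toMonoidHom.comp (QuotientGroup.mk' (center H))
  have hρs : Function.Surjective ρ := e.surjective.comp (QuotientGroup.mk'_surjective _)
  have hρk : ∀ x : H, ρ x = 1 → x ∈ center H := by
    intro x hx
    have : QuotientGroup.mk' (center H) x = 1 := by
      apply e.injective
      rw [map_one]; exact hx
    exact (QuotientGroup.eq_one_iff x).1 this
  have hcover : ∀ x : H, ∃ k ∈ commutator H, ∃ c ∈ center H, x = c * k := by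
    intro x
    have h4 : ρ x ∈ (commutator H).map ρ := by
      rw [commutator_def, Subgroup.map_commutator, ← MonoidHom.range_eq_map,
        MonoidHom.range_eq_top.2 hρs, ← commutator_def, hK]
      exact mem_top _
    obtain ⟨k, hk, hkx⟩ := h4
    refine ⟨k, hk, x * k⁻¹, hρk _ ?_, by group⟩
    rw [map_mul, map_inv, hkx, mul_inv_cancel]
  by_contra hne
  have hz1 : z ∉ commutator H := by
    intro hzc
    apply hne
    rw [eq_top_iff]
    intro x _
    obtain ⟨k, hk, c, hc, rfl⟩ := hcover x
    rcases hz'.2 c hc with rfl | rfl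
    · rw [one_mul]; exact hk
    · exact mul_mem hzc hk
  apply h3 (commutator H)
  apply Subgroup.isComplement'_of_disjoint_and_mul_eq_univ
  · rw [Subgroup.disjoint_def]
    intro x hx hx'
    rcases hz'.2 x hx with rfl | rfl
    · rfl
    · exact absurd hx' hz1
  · rw [Set.eq_univ_iff_forall]
    intro x
    obtain ⟨k, hk, c, hc, rfl⟩ := hcover x
    exact Set.mul_mem_mul hc hk

theorem noSign_of_double {H K : Type*} [Group H] [Group K] (h : IsNonsplitDoubleCover H K)
    (hK : commutator K = ⊤) : NoSign H := NoSign.of_perfect (perfect_of_double h hK)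

end Cfsg.Agent.KFacts.MulFi24.Double
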