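import Cfsg.Agent.KFacts.MulFi24.Main
import Cfsg.Agent.KFacts.MulY.Fi23

/-! # `Fi24'` has no perfect double cover -/

set_option autoImplicit false

namespace Cfsg.Agent.KFacts.MulFi24.Final

open Cfsg Cfsg.Agent.KFacts.MulDef

theorem noDouble : NoDouble Cfsg.Spor.Fi24' := Main.noDouble Cfsg.Agent.KFacts.MulY.Fi23.noDouble

theorem noDouble_of_iso {K : Type*} [Group K] (h : Spor.IsoFi24' K) : NoDouble K := by
  obtain ⟨e⟩ := h
  exact noDouble.congr e.symm

end Cfsg.Agent.KFacts.MulFi24.Final
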