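import Cfsg.Agent.KFacts.MulFi24.Abs
import Cfsg.Agent.KFacts.MulFi24.Double
import Cfsg.Agent.Fischer.Fi24Real
import Cfsg.Agent.Fischer.Fi24Spider
import Cfsg.Agent.Fischer.Fi24Index
import Cfsg.Agent.Fischer.Fi23Class
import Cfsg.Agent.S1688
import Cfsg.Agent.S1696
import Cfsg.Agent.S1697

/-!
# The 2-part of the Schur multiplier of `Fi24'` is trivial

`noDouble`: if `Fi23` has no perfect double cover, then `Fi24'` has none.
-/

set_option autoImplicit false
set_option linter.constructorNameAsVariable false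

namespace Cfsg.Agent.KFacts.MulFi24.Main

open Cfsg Cfsg.Agent.KFacts.MulDef Cfsg.Agent.KFacts.MulFi24.Clique Cfsg.Agent.KFacts.MulFi24.Abs
open Cfsg.Agent.Fischer.Abstract
open Cfsg.Agent.Fischer
open Cfsg.Spor (Fi23 Fi24 Fi22)

theorem perfect_of_simple {P : Type*} [Group P] (hP : IsSimpleGroup P) (hcard : ¬ (Nat.card P).Prime) :
    commutator P = ⊤ := Fi24Class.perfect_of_simple hP hcard

/-- The centralizer of the base transposition of `Fi23`. -/
theorem noSign_fi23 (R : Rank3 Fi23 (Fi23 ⧸ Fi23Class.K)) (hR0 : R.x0 = ((1 : Fi23) : Fi23 ⧸ Fi23Class.K)) :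
    NoSign ↥(Subgroup.centralizer ({R.t R.x0} : Set Fi23)) := by
  have h22 := Cfsg.Agent.S1696.result
  have hp : commutator Fi22 = ⊤ := perfect_of_simple h22.1 (by
    rw [h22.2]
    intro hp
    exact absurd ((Nat.prime_dvd_prime_iff_eq Nat.prime_two hp).1 (by norm_num)) (by norm_num))
  refine Double.noSign_of_double (K := Fi22) ?_ hp
  have hC : Centralizer.C R = Cfsg.Agent.SporRec.Fi23Index.H := by
    ext g
    rw [Centralizer.mem_C_iff, hR0, SuborbitCover.smul_one_coset, SuborbitCover.coset_eq_one_iff]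
  have h2 := Cfsg.Agent.S1688.result
  have hset : (Subgroup.closure ({Cfsg.Spor.Fi23.a, Cfsg.Spor.Fi23.b, Cfsg.Spor.Fi23.c, Cfsg.Spor.Fi23.d,
      Cfsg.Spor.Fi23.e, Cfsg.Spor.Fi23.f, Cfsg.Spor.Fi23.g, Cfsg.Spor.Fi23.h, Cfsg.Spor.Fi23.i} :
      Set (FreeGroup Cfsg.Spor.Fi23.Gen))).map
      (PresentedGroup.mk (Cfsg.Spor.coxRelators Cfsg.Spor.Fi23.edges ∪ {r | r ∈ Cfsg.Spor.Fi23.extra})) =
      Centralizer.C R := by
    rw [hC]
    exact Cfsg.Agent.SporRec.Fi23Index.map_closure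
  rw [hset] at h2
  exact h2

/-- The situation in the presented groups. -/
theorem exists_sit : Finite Fi24 ∧ ∃ (R : Rank3 Fi24 (Fi24 ⧸ Fi24RepOrb.H)) (R' : Rank3 Fi23 (Fi23 ⧸ Fi23Class.K))
    (φ : Fi23 →* Fi24), Sit R R' φ ∧ NoSign ↥(Subgroup.centralizer ({R'.t R'.x0} : Set Fi23)) := by
  obtain ⟨hne, hub⟩ := Fi24Index.index_le
  have h97 := Cfsg.Agent.S1697.result
  obtain ⟨hfin, hH⟩ := Fi24Spider.main hub hne h97.2
  obtain ⟨hidx, _, q₁, q₂, ho1, ho2⟩ := Fi24RepOrb.index_and_suborbits hub hne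
  have hcom := Fi24Final.card_commutator hub hne hfin hH
  have hcard : Nat.card Fi24 = 2 * 1255205709190661721292800 := by
    rw [← Subgroup.index_mul_card (commutator Fi24), Fi24Final.index_commutator, hcom]
  have hfin24 : Finite Fi24 := Nat.finite_of_card_ne_zero (by rw [hcard]; norm_num)
  have hne1 : Nat.card (commutator Fi24) ≠ 1 := by rw [hcom]; norm_num
  obtain ⟨R, hR, hR0⟩ := Fi24Class.exists_rank3 hne1 Fi24RepOrb.H Fi24Final.h_comm hidx q₁ q₂ ho1 ho2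
  have hX : Nat.card (Fi24 ⧸ Fi24RepOrb.H) = 306936 := by rw [← Subgroup.index_eq_card, hidx]
  have hC : Nat.card (Centralizer.C R) = 2 * 4089470473293004800 := by
    have h := Centralizer.card_eq R
    rw [hX, hcard] at h
    omega
  have hfin23 : Finite Fi23 := Nat.finite_of_card_ne_zero (by rw [h97.2]; norm_num)
  obtain ⟨R', hR', hR0'⟩ := Fi23Class.exists_rank3 h97.2.le
  obtain ⟨φ, hφ⟩ := Fi24Class.exists_fi23_hom (Fi24Real.spider hfin hH)
  have hp23 : commutator Fi23 = ⊤ := perfect_of_simple h97.1 (by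
    rw [h97.2]
    intro hp
    exact absurd ((Nat.prime_dvd_prime_iff_eq Nat.prime_two hp).1 (by norm_num)) (by norm_num))
  have hφ1 : Function.Injective φ := by
    apply Fi24Class.injective_of_simple h97.1
    refine ⟨Cfsg.Agent.SporRec.Fi23Rel.gen .a, ?_⟩
    rw [hφ]
    intro h
    apply Fi24Class.a_ne_l hne1
    have h2 : Fi24Class.gen .a * Fi24Class.gen .l = 1 := h
    rw [mul_eq_one_iff_eq_inv, Fi24Class.gen_inv] at h2
    exact h2
  have hφC : φ.range ≤ Subgroup.centralizer ({Fi24Class.gen .l} : Set Fi24) := by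
    rw [MonoidHom.range_eq_map, ← Cfsg.Agent.SporRec.Fi23Rel.closure_gen, MonoidHom.map_closure,
      Subgroup.closure_le]
    rintro _ ⟨_, ⟨x, rfl⟩, rfl⟩
    rw [SetLike.mem_coe, Subgroup.mem_centralizer_singleton_iff, hφ]
    unfold Fi24Class.img
    rw [mul_assoc, ← mul_assoc (Fi24Class.gen .l), ← Fi24Class.comm_l _ (Fi24Class.emb_ne_k x), mul_assoc]
  have hcen : ∀ h, φ h * Fi24Class.gen .l = Fi24Class.gen .l * φ h := fun h =>
    Subgroup.mem_centralizer_singleton_iff.1 (hφC ⟨h, rfl⟩)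
  refine ⟨hfin24, R, R', φ, ⟨hφ1, ?_, ?_, Fi24Final.index_commutator, hp23, ?_⟩, noSign_fi23 R' hR0'⟩
  · intro h
    rw [hR]; exact hcen h
  · obtain ⟨k, hk⟩ := isConj_iff.1 (Fi23Class.isConj_gen h97.2.le .a)
    obtain ⟨u, hu⟩ := isConj_iff.1 (Fi24Class.isConj_gen .a)
    have hk' : k * Fi23Z.z0 * k⁻¹ = Cfsg.Agent.SporRec.Fi23Rel.gen .a := hk
    have h1 : φ (Cfsg.Agent.SporRec.Fi23Rel.gen .a) = Fi24Class.gen .a * Fi24Class.gen .l := hφ .a
    have hz : Fi23Z.z0 = k⁻¹ * Cfsg.Agent.SporRec.Fi23Rel.gen .a * k := by rw [← hk']; group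
    refine ⟨((φ k)⁻¹ * u) • R.x0, ?_⟩
    rw [R.map_smul, hR, hR', hz, map_mul, map_mul, map_inv, h1, ← hu]
    have e2 : Fi24Class.gen .l * φ k = φ k * Fi24Class.gen .l := (hcen k).symm
    calc (φ k)⁻¹ * u * Fi24Class.gen .l * ((φ k)⁻¹ * u)⁻¹
        = (φ k)⁻¹ * (u * Fi24Class.gen .l * u⁻¹) * φ k := by group
      _ = (φ k)⁻¹ * (u * Fi24Class.gen .l * u⁻¹) * (φ k * (Fi24Class.gen .l * Fi24Class.gen .l)) := by
          rw [Fi24Class.gen_sq, mul_one]
      _ = (φ k)⁻¹ * (u * Fi24Class.gen .l * u⁻¹) * (φ k * Fi24Class.gen .l) * Fi24Class.gen .l := by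
          simp only [mul_assoc]
      _ = (φ k)⁻¹ * (u * Fi24Class.gen .l * u⁻¹) * (Fi24Class.gen .l * φ k) * Fi24Class.gen .l := by rw [e2]
      _ = _ := by simp only [mul_assoc]
  · rw [h97.2]; exact hC

/-- **`Fi24'` has no perfect double cover.** -/
theorem noDouble (h23 : NoDouble Fi23) : NoDouble Cfsg.Spor.Fi24' := by
  obtain ⟨hfin, R, R', φ, hS, hC⟩ := exists_sit
  exact hS.noDouble h23 hC

end Cfsg.Agent.KFacts.MulFi24.Main
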